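import Cfsg.Agent.H217.Odm.Eng2
import Cfsg.Agent.H217.Odm.Real
import Cfsg.Agent.H438.Fpr.HNA
import Cfsg.Agent.NotCT.Orders

/-!
# TEAM ODDM (S4785): the Harada-Norton group (helper219)

`r = 11`: `|C(x)| = 22`, `|N(⟨x⟩)| = 220`; the elements of order 7 are real and commute with no element of order 11;
`|N(⟨x⟩)| = 171` for the elements of order 19.
-/

set_option autoImplicit false

namespace Cfsg.Agent.H219.OdmRowHN

open Cfsg Subgroup Cfsg.Agent.OrdDiv Cfsg.Agent.H453.OddM Cfsg.Agent.H257.El Cfsg.Agent.H217.Odm

universe u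

theorem card_cent_map {G H : Type*} [Group G] [Group H] (e : G ≃* H) (x : G) :
    Nat.card (centralizer ({x} : Set G)) = Nat.card (centralizer ({e x} : Set H)) := by
  refine Nat.card_congr
    { toFun := fun c => ⟨e c, ?_⟩
      invFun := fun c => ⟨e.symm c, ?_⟩
      left_inv := fun c => Subtype.ext (e.symm_apply_apply _)
      right_inv := fun c => Subtype.ext (e.apply_symm_apply _) }
  · have h := mem_centralizer_singleton_iff.1 c.2
    rw [mem_centralizer_singleton_iff, ← map_mul, h, map_mul]
  · have h := mem_centralizer_singleton_iff.1 c.2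
    rw [mem_centralizer_singleton_iff]
    apply e.injective
    rw [map_mul, map_mul, e.apply_symm_apply, h]

theorem cz {G : Type*} [Group G] (x : G) : centralizer ((zpowers x : Subgroup G) : Set G) = centralizer ({x} : Set G) := by
  rw [zpowers_eq_closure, centralizer_closure]

theorem row (tab : Cfsg.Agent.OrdDiv.OrderTable.{u}) (known : Cfsg.Agent.H257.El.Known.{u}) {T : Type u} [Group T]
    (h : Cfsg.Spor.IsoHN T) : Cfsg.Agent.H453.OddM.Row T := by
  have hc : Nat.card T = 273030912000000 := NotCT.Orders.hn h
  have : Finite T := Nat.finite_of_card_ne_zero (by rw [hc]; norm_num)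
  obtain ⟨e⟩ := h
  have c11 : ∀ x : T, orderOf x = 11 → Nat.card (centralizer ({x} : Set T)) = 11 * 2 := by
    intro x hx
    have h1 : Nat.card (zpowers (e x)) = 11 := by rw [Nat.card_zpowers, MulEquiv.orderOf_eq, hx]
    rw [card_cent_map e x, ← cz]
    exact (H438.Fpr.HN.cn11 h1).1
  have c19 : ∀ x : T, orderOf x = 19 → Nat.card (centralizer ({x} : Set T)) = 19 * 1 := by
    intro x hx
    have h1 : Nat.card (zpowers (e x)) = 19 := by rw [Nat.card_zpowers, MulEquiv.orderOf_eq, hx]
    rw [card_cent_map e x, ← cz]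
    exact (H438.Fpr.HN.cn19 h1).1
  have c7 : ∀ x : T, orderOf x = 7 → Nat.card (centralizer ({x} : Set T)) = 7 * 60 := by
    intro x hx
    have h1 : Nat.card (zpowers (e x)) = 7 := by rw [Nat.card_zpowers, MulEquiv.orderOf_eq, hx]
    rw [card_cent_map e x, ← cz]
    exact (H438.Fpr.HN.cn7 h1).1
  have n11 : ∀ x : T, orderOf x = 11 →
      Nat.card (normalizer ((zpowers x : Subgroup T) : Set T)) = 11 * 20 := by
    intro x hx
    have h1 := (norm_of_cent (G := T) (r := 11) (n := 273030912000000 / 11) (c := 2) (e := 10) (by norm_num)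
      (by rw [hc]) (by norm_num) hx (c11 x hx) (by norm_num) (by norm_num)).1
    rw [h1]
  have n19 : ∀ x : T, orderOf x = 19 →
      Nat.card (normalizer ((zpowers x : Subgroup T) : Set T)) = 19 * 9 := by
    intro x hx
    have h1 := (norm_of_cent (G := T) (r := 19) (n := 273030912000000 / 19) (c := 1) (e := 9) (by norm_num)
      (by rw [hc]) (by norm_num) hx (c19 x hx) (by norm_num) (by norm_num)).1
    rw [h1]
  have r11 : RealP T 11 := realP_of_cent (r := 11) (n := 273030912000000 / 11) (c := 2) (e := 10) (by norm_num)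
      (by rw [hc]) (by norm_num) c11 (by norm_num) (by norm_num) (by decide)
  have r7 : RealP T 7 := realP_of_cent (r := 7) (n := 273030912000000 / 7) (c := 60) (e := 6) (by norm_num)
      (by rw [hc]) (by norm_num) c7 (by norm_num) (by norm_num) (by decide)
  refine row_of_left (n := 273030912000000) (l := [(2, 14), (3, 6), (5, 6), (7, 1), (11, 1), (19, 1)]) (r := 11)
    (ss := [7]) (aux := [(11, 20, true), (19, 9, false)]) (dv := []) tab known hc (by norm_num)
    (fun R hR => hR.cov.dvd r11) ?_ ?_ (by simp) (by decide +kernel) (by decide +kernel)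
  · intro s hs
    rw [List.mem_singleton] at hs
    subst hs
    exact ⟨by norm_num, fun R hR => hR.cov.dvd r7,
      noOrd_of_card_cent (by norm_num) (by norm_num) fun x hx => by rw [c11 x hx]; norm_num⟩
  · intro R hR x hx
    rw [List.mem_cons, List.mem_singleton] at hx
    rcases hx with rfl | rfl
    · exact Pt.of_real hR (by norm_num) (by norm_num) r11 (by norm_num) n11 true
    · exact Pt.of_norm (by norm_num) (by norm_num) (by norm_num) n19

end Cfsg.Agent.H219.OdmRowHN
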